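import Groth.Agent.S7479
import Groth.Agent.H50.LocPClass
import Groth.Prelude.Def_W4stk3sptopologiesPh

/-!
# Composition of ph coverings of algebraic spaces

Uses helper37's S7479(2): a composite of standard ph coverings is refined by a standard ph covering.
-/

set_option autoImplicit false
universe w u
open CategoryTheory CategoryTheory.Limits AlgebraicGeometry Opposite

namespace Groth.Agent.H68.AlgSpPh

open AlgSp in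
/-- Lifting plumbing for a two-step refinement. -/
theorem comp_lift_aux {S : Scheme.{u}} {Z : Over S} {A B W : Scheme.{u}} (a : A ⟶ Z.left)
    (b : B ⟶ A) (c : W ⟶ B) (f' : W ⟶ Z.left) (hw : c ≫ b ≫ a = f') {X Xi Xij : Sp S}
    (t : (yon S).obj Z ⟶ X) (g : Xi ⟶ X) (g' : Xij ⟶ Xi)
    (l : (yon S).obj (Over.mk (a ≫ Z.hom)) ⟶ Xi)
    (hl : l ≫ g = (yon S).map (Over.homMk a rfl : Over.mk (a ≫ Z.hom) ⟶ Z) ≫ t)
    (l' : (yon S).obj (Over.mk (b ≫ (Over.mk (a ≫ Z.hom)).hom)) ⟶ Xij)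
    (hl' : l' ≫ g' = (yon S).map (Over.homMk b rfl :
      Over.mk (b ≫ (Over.mk (a ≫ Z.hom)).hom) ⟶ Over.mk (a ≫ Z.hom)) ≫ l) :
    ∃ l'' : (yon S).obj (Over.mk (f' ≫ Z.hom)) ⟶ Xij,
      l'' ≫ (g' ≫ g) = (yon S).map (Over.homMk f' rfl : Over.mk (f' ≫ Z.hom) ⟶ Z) ≫ t := by
  subst hw
  let Z₁ : Over S := Over.mk (a ≫ Z.hom)
  let Z₂ : Over S := Over.mk (b ≫ Z₁.hom)
  let Z₃ : Over S := Over.mk ((c ≫ b ≫ a) ≫ Z.hom)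
  let m₁ : Z₁ ⟶ Z := Over.homMk a rfl
  let m₂ : Z₂ ⟶ Z₁ := Over.homMk b rfl
  let m₃ : Z₃ ⟶ Z₂ := Over.homMk c (by simp [Z₂, Z₁, Z₃])
  let m : Z₃ ⟶ Z := Over.homMk (c ≫ b ≫ a) rfl
  have hm : m₃ ≫ m₂ ≫ m₁ = m := by
    ext
    simp [m₁, m₂, m₃, m]
  change ∃ l'' : (yon S).obj Z₃ ⟶ Xij, l'' ≫ (g' ≫ g) = (yon S).map m ≫ t
  change l ≫ g = (yon S).map m₁ ≫ t at hl
  change l' ≫ g' = (yon S).map m₂ ≫ l at hl'
  refine ⟨(yon S).map m₃ ≫ l', ?_⟩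
  calc ((yon S).map m₃ ≫ l') ≫ (g' ≫ g) = (yon S).map m₃ ≫ (l' ≫ g') ≫ g := by
        simp only [Category.assoc]
    _ = (yon S).map m₃ ≫ (yon S).map m₂ ≫ (yon S).map m₁ ≫ t := by
        rw [hl', Category.assoc, hl]
    _ = (yon S).map (m₃ ≫ m₂ ≫ m₁) ≫ t := by
        simp only [Functor.map_comp, Category.assoc]
    _ = _ := by rw [hm]

open AlgSp in
/-- The composite of ph coverings of algebraic spaces is a ph covering. -/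
theorem isPhCover_comp {S : Scheme.{u}} {ι : Type u} {X : Sp S} (Xi : ι → Sp S)
    (hXi : ∀ i, IsAlgSpace (Xi i)) (g : ∀ i, Xi i ⟶ X) (κ : ι → Type u)
    (Xij : ∀ i, κ i → Sp S) (gij : ∀ i j, Xij i j ⟶ Xi i) (h : AlgSp.IsPhCover Xi g)
    (hij : ∀ i, AlgSp.IsPhCover (Xij i) (gij i)) :
    AlgSp.IsPhCover (fun r : Σ i, κ i => Xij r.1 r.2) (fun r => gij r.1 r.2 ≫ g r.1) := by
  refine ⟨fun r => Groth.Agent.H50.goodClass_lft.locP_comp (hXi r.1) _ _ ((hij r.1).1 r.2)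
    (h.1 r.1), fun Z hZ t => ?_⟩
  have hZ' : IsAffine Z.left := hZ
  obtain ⟨F, hF, hl⟩ := h.2 Z hZ t
  choose i l hl using hl
  choose G hG hl2 using fun j : F.I₀ =>
    (hij (i j)).2 (Over.mk (F.f j ≫ Z.hom)) (hF.isAffine_obj j) (l j)
  choose k' l' hl' using hl2
  obtain ⟨F', hF', ⟨φ⟩⟩ := (Groth.Agent.S7479.result.{0, u, 0} (T := Z.left)).2 F hF G hG
  refine ⟨F', hF', fun m => ?_⟩
  obtain ⟨l'', hl''⟩ := comp_lift_aux (F.f (φ.s₀ m).1) ((G (φ.s₀ m).1).f (φ.s₀ m).2) (φ.h₀ m)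
    (F'.f m) (φ.w₀ m) t (g (i (φ.s₀ m).1)) (gij (i (φ.s₀ m).1) (k' (φ.s₀ m).1 (φ.s₀ m).2))
    (l (φ.s₀ m).1) (hl (φ.s₀ m).1) (l' (φ.s₀ m).1 (φ.s₀ m).2) (hl' (φ.s₀ m).1 (φ.s₀ m).2)
  exact ⟨⟨i (φ.s₀ m).1, k' (φ.s₀ m).1 (φ.s₀ m).2⟩, l'', hl''⟩

end Groth.Agent.H68.AlgSpPh
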