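import Groth.Agent.H52.FppfFpqc
import Groth.Agent.H68.Fppf.PhCoverMain
import Groth.Prelude.Def_W4stk3sptopologiesPh

/-!
# fppf coverings of algebraic spaces are ph coverings

The scheme case is `Groth.Agent.H68.Fppf.isPhCover_of_fppf`; charts come from
`Groth.Agent.H52.exists_fppf_charts`.
-/

set_option autoImplicit false
universe w u
open CategoryTheory CategoryTheory.Limits AlgebraicGeometry Opposite

namespace Groth.Agent.H68.AlgSpPh

/-- A standard ph covering composed with an isomorphism of the target is a standard ph covering. -/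
theorem isStandardPh_comp_iso {T T' : Scheme.{u}} (F : PreZeroHypercover.{w} T) (e : T ⟶ T')
    [IsIso e] (hF : HTop.IsStandardPh F) :
    HTop.IsStandardPh (⟨F.I₀, F.X, fun j => F.f j ≫ e⟩ : PreZeroHypercover.{w} T') := by
  have : IsAffine T := hF.isAffine
  refine ⟨IsAffine.of_isIso (inv e), hF.finite_index, hF.isAffine_obj, ?_⟩
  obtain ⟨U, f, ι, hp, hs, ho, hc, hcov⟩ := hF.exists_proper
  refine ⟨U, f ≫ e, ι, inferInstance, inferInstance, ho, fun j => ?_, hcov⟩
  rw [← Category.assoc, hc j]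

open AlgSp in
/-- Lifting plumbing: a scheme-level factorization gives a sheaf-level lift. -/
theorem exists_lift_aux {S : Scheme.{u}} {Z Ui : Over S} {W : Scheme.{u}} (k : W ⟶ Z.left)
    (hji : W ⟶ Ui.left) (v : Ui ⟶ Z) (hcomm : hji ≫ v.left = k) {X Xi : Sp S}
    (t : (yon S).obj Z ⟶ X) (l : (yon S).obj Ui ⟶ Xi) (g : Xi ⟶ X)
    (hl : l ≫ g = (yon S).map v ≫ t) :
    ∃ l' : (yon S).obj (Over.mk (k ≫ Z.hom)) ⟶ Xi,
      l' ≫ g = (yon S).map (Over.homMk k rfl : Over.mk (k ≫ Z.hom) ⟶ Z) ≫ t := by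
  have hw : hji ≫ Ui.hom = k ≫ Z.hom := by
    rw [← Over.w v, ← Category.assoc, hcomm]
  let m : Over.mk (k ≫ Z.hom) ⟶ Ui := Over.homMk hji hw
  have hm : m ≫ v = Over.homMk k rfl := by
    ext
    exact hcomm
  refine ⟨(yon S).map m ≫ l, ?_⟩
  rw [Category.assoc, hl, ← Category.assoc, ← Functor.map_comp, hm]

open AlgSp in
/-- An fppf covering of an algebraic space by algebraic spaces is a ph covering. -/
theorem isPhCover_of_isFppfCover {S : Scheme.{u}} {ι : Type u} {X : Sp S} (hX : IsAlgSpace X)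
    (Xi : ι → Sp S) (hXi : ∀ i, IsAlgSpace (Xi i)) (g : ∀ i, Xi i ⟶ X) (h : IsFppfCover Xi g) :
    AlgSp.IsPhCover Xi g := by
  refine ⟨fun i U V a b hh ha hb e => ?_, fun Z hZ t => ?_⟩
  · have := (h.1 i).2 a b hh ha hb e
    infer_instance
  · obtain ⟨U, u, l, hflat, hlfp, hsurj, hl⟩ :=
      Groth.Agent.H52.exists_fppf_charts hX Xi hXi g h Z t
    let E : PreZeroHypercover.{u} Z.left := ⟨ι, fun i => (U i).left, fun i => (u i).left⟩
    have hE : HTop.IsPhCover E :=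
      Groth.Agent.H68.Fppf.isPhCover_of_fppf E hflat hlfp (fun z => by
        obtain ⟨i, x, hx⟩ := hsurj z
        exact ⟨i, x, hx⟩)
    have hZ' : IsAffine Z.left := hZ
    have htop : (⊤ : Z.left.Opens) ∈ Z.left.affineOpens := isAffineOpen_top Z.left
    obtain ⟨F, hF, hr⟩ := hE.2 ⟨⊤, htop⟩
    have hiso : IsIso (⊤ : Z.left.Opens).ι := Z.left.topIso.isIso_hom
    refine ⟨⟨F.I₀, F.X, fun j => F.f j ≫ (⊤ : Z.left.Opens).ι⟩,
      isStandardPh_comp_iso F (⊤ : Z.left.Opens).ι hF, fun j => ?_⟩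
    obtain ⟨i, hji, hcomm⟩ := hr j
    exact ⟨i, exists_lift_aux (F.f j ≫ (⊤ : Z.left.Opens).ι) (Ui := U i) hji (u i) hcomm t (l i)
      (g i) (hl i)⟩

end Groth.Agent.H68.AlgSpPh
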